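import Mathlib.RingTheory.Flat.Basic
import Mathlib.RingTheory.Flat.Localization
import Mathlib.RingTheory.Localization.BaseChange
import Mathlib.RingTheory.Localization.Away.Basic
import Mathlib.LinearAlgebra.TensorProduct.RightExactness
import Mathlib.RingTheory.FinitePresentation

/-!
# Bijectivity after localisation, at a finite stage
-/

set_option autoImplicit false
set_option backward.isDefEq.respectTransparency.types false
set_option backward.isDefEq.respectTransparency false

universe u

open TensorProduct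

namespace Groth.Agent.FlatMono

variable {A : Type u} [CommRing A] (S : Submonoid A)

/-- A linear map is bijective up to `S`-torsion. -/
structure SBij {P Q : Type u} [AddCommGroup P] [AddCommGroup Q] [Module A P] [Module A Q] (f : P →ₗ[A] Q) : Prop where
  surj : ∀ q, ∃ s ∈ S, s • q ∈ LinearMap.range f
  inj : ∀ z, f z = 0 → ∃ s ∈ S, s • z = 0

variable {P Q : Type u} [AddCommGroup P] [AddCommGroup Q] [Module A P] [Module A Q]

theorem exact_subtype_ker (f : P →ₗ[A] Q) : Function.Exact (LinearMap.ker f).subtype f :=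
  fun x => ⟨fun h => ⟨⟨x, h⟩, rfl⟩, fun ⟨y, hy⟩ => hy ▸ y.2⟩

theorem SBij.lTensor {f : P →ₗ[A] Q} (hf : SBij S f) (M : Type u) [AddCommGroup M] [Module A M]
    [Module.Flat A M] : SBij S (f.lTensor M) := by
  refine ⟨fun q => ?_, fun z hz => ?_⟩
  · induction q with
    | zero => exact ⟨1, one_mem S, by simp⟩
    | tmul m q =>
      obtain ⟨s, hs, p, hp⟩ := hf.surj q
      exact ⟨s, hs, m ⊗ₜ p, by simp [hp]⟩
    | add a b ha hb =>
      obtain ⟨s, hs, p, hp⟩ := ha
      obtain ⟨t, ht, r, hr⟩ := hb
      exact ⟨s * t, mul_mem hs ht, t • p + s • r, by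
        rw [map_add, map_smul, map_smul, hp, hr, smul_smul, smul_smul, smul_add, mul_comm t s]⟩
  · obtain ⟨w, rfl⟩ := (Module.Flat.lTensor_exact M (exact_subtype_ker f) z).1 hz
    induction w with
    | zero => exact ⟨1, one_mem S, by simp⟩
    | tmul m p =>
      obtain ⟨s, hs, hp⟩ := hf.inj p.1 p.2
      exact ⟨s, hs, by simp [← tmul_smul, hp]⟩
    | add a b ha hb =>
      obtain ⟨s, hs, h1⟩ := ha (by
        rw [← LinearMap.comp_apply, ← LinearMap.lTensor_comp, (exact_subtype_ker f).linearMap_comp_eq_zero,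
          LinearMap.lTensor_zero, LinearMap.zero_apply])
      obtain ⟨t, ht, h2⟩ := hb (by
        rw [← LinearMap.comp_apply, ← LinearMap.lTensor_comp, (exact_subtype_ker f).linearMap_comp_eq_zero,
          LinearMap.lTensor_zero, LinearMap.zero_apply])
      exact ⟨s * t, mul_mem hs ht, by
        rw [map_add, smul_add, mul_comm s t, mul_smul, h1, smul_zero, zero_add, mul_comm t s, mul_smul, h2,
          smul_zero]⟩

theorem surjective_lTensor_away (f : P →ₗ[A] Q) (s : A)
    (h : ∀ q, ∃ n : ℕ, s ^ n • q ∈ LinearMap.range f) :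
    Function.Surjective (f.lTensor (Localization.Away s)) := by
  intro q
  induction q with
  | zero => exact ⟨0, map_zero _⟩
  | tmul a q =>
    obtain ⟨n, p, hp⟩ := h q
    obtain ⟨b, hb⟩ := ((IsLocalization.Away.algebraMap_isUnit s).pow n :
      IsUnit (algebraMap A (Localization.Away s) s ^ n)).exists_left_inv
    refine ⟨(a * b) ⊗ₜ p, ?_⟩
    rw [LinearMap.lTensor_tmul, hp, ← smul_tmul, Algebra.smul_def, map_pow]
    congr 1
    rw [mul_left_comm, mul_comm (algebraMap A _ s ^ n) b, hb, mul_one]
  | add a b ha hb =>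
    obtain ⟨p, rfl⟩ := ha
    obtain ⟨r, rfl⟩ := hb
    exact ⟨p + r, map_add _ _ _⟩

theorem injective_lTensor_away (f : P →ₗ[A] Q) (s : A)
    (h : ∀ z, f z = 0 → ∃ n : ℕ, s ^ n • z = 0) :
    Function.Injective (f.lTensor (Localization.Away s)) := by
  rw [← LinearMap.ker_eq_bot, eq_bot_iff]
  intro z hz
  obtain ⟨w, rfl⟩ := (Module.Flat.lTensor_exact (Localization.Away s) (exact_subtype_ker f) z).1 hz
  rw [Submodule.mem_bot]
  clear hz
  induction w with
  | zero => simp
  | tmul a p =>
    obtain ⟨n, hn⟩ := h p.1 p.2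
    obtain ⟨b, hb⟩ := ((IsLocalization.Away.algebraMap_isUnit s).pow n :
      IsUnit (algebraMap A (Localization.Away s) s ^ n)).exists_left_inv
    have e : a = (s ^ n) • (a * b) := by
      rw [Algebra.smul_def, map_pow, mul_left_comm, mul_comm (algebraMap A _ s ^ n) b, hb, mul_one]
    rw [LinearMap.lTensor_tmul, e, smul_tmul]
    simp [hn]
  | add a b ha hb => rw [map_add, ha, hb, add_zero]

variable (A) in
theorem bijective_lTensor_leftComm (M N : Type u) [AddCommGroup M] [Module A M] [AddCommGroup N] [Module A N]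
    (f : P →ₗ[A] Q) (h : Function.Bijective ((f.lTensor M).lTensor N)) :
    Function.Bijective ((f.lTensor N).lTensor M) := by
  have e : (f.lTensor N).lTensor M =
      (TensorProduct.leftComm A N M Q).toLinearMap ∘ₗ (f.lTensor M).lTensor N ∘ₗ
        (TensorProduct.leftComm A M N P).toLinearMap := by
    ext m n p
    simp
  rw [e]
  exact (TensorProduct.leftComm A N M Q).bijective.comp (h.comp (TensorProduct.leftComm A M N P).bijective)

end Groth.Agent.FlatMono
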