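import Groth.Agent.FlatMono.EtaleLocal

/-!
# The equalizer ring of a flat algebra with etale self tensor product
-/

set_option autoImplicit false
set_option linter.style.haveILetI false
set_option backward.isDefEq.respectTransparency.types false
set_option backward.isDefEq.respectTransparency false
set_option synthInstance.maxHeartbeats 200000

universe u

open CategoryTheory Limits AlgebraicGeometry TensorProduct Algebra.TensorProduct

noncomputable section

namespace Groth.Agent.FlatMono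

variable (A B : Type u) [CommRing A] [CommRing B] [Algebra A B]

/-- The elements with equal images in the self tensor product. -/
abbrev eqAlg : Subalgebra A B :=
  AlgHom.equalizer (includeLeft : B →ₐ[A] B ⊗[A] B) (includeRight : B →ₐ[A] B ⊗[A] B)

theorem etale_specMap_eqAlg [Module.Flat A B] [Algebra.Etale B (B ⊗[A] B)] :
    Etale (Spec.map (CommRingCat.ofHom (algebraMap (eqAlg A B) B))) := by
  let E := eqAlg A B
  let Φ : E ⊗[A] B →ₐ[E] B := Algebra.TensorProduct.lift (Algebra.ofId E B) (AlgHom.id A B) fun _ _ => Commute.all _ _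
  have hΦ : ∀ (x : E) (b : B), Φ (x ⊗ₜ b) = (x : B) * b := fun x b => by simp [Φ]
  have hrt : ∀ z : E ⊗[A] B, (E.val.toLinearMap.rTensor B) z = (1 : B) ⊗ₜ[A] Φ z := by
    intro z
    induction z with
    | zero => simp
    | tmul x b =>
      have hx : (x : B) ⊗ₜ[A] (1 : B) = (1 : B) ⊗ₜ[A] (x : B) := x.2
      rw [hΦ, LinearMap.rTensor_tmul]
      show (x : B) ⊗ₜ[A] b = _
      calc (x : B) ⊗ₜ[A] b = ((x : B) ⊗ₜ[A] (1 : B)) * ((1 : B) ⊗ₜ[A] b) := by simp
        _ = _ := by rw [hx]; simp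
    | add a b ha hb => rw [map_add, map_add, ha, hb, tmul_add]
  have hbij : Function.Bijective Φ := by
    refine ⟨fun z z' h => ?_, fun b => ⟨(1 : E) ⊗ₜ b, by rw [hΦ, OneMemClass.coe_one, one_mul]⟩⟩
    refine Module.Flat.rTensor_preserves_injective_linearMap (M := B) E.val.toLinearMap Subtype.val_injective ?_
    rw [hrt, hrt, h]
  let e := AlgEquiv.ofBijective Φ hbij
  haveI : Module.Flat E B := Module.Flat.of_linearEquiv e.symm.toLinearEquiv
  let e₁ : B ⊗[E] (E ⊗[A] B) ≃ₐ[B] B ⊗[A] B := Algebra.TensorProduct.cancelBaseChange A E B B B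
  let e₂ : B ⊗[E] (E ⊗[A] B) ≃ₐ[B] B ⊗[E] B := Algebra.TensorProduct.congr AlgEquiv.refl e
  let e₃ : B ⊗[A] B ≃ₐ[B] B ⊗[E] B := e₁.symm.trans e₂
  haveI : Algebra.Etale B (B ⊗[E] B) := Algebra.Etale.of_equiv e₃
  refine etale_specMap_of_amitsur Subtype.val_injective fun b hb => ?_
  have h3 : ∀ x y : B, e₃ (x ⊗ₜ[A] y) = x ⊗ₜ[E] y := fun x y => by
    simp [e₃, e₁, e₂, e, hΦ]
  refine ⟨⟨b, ?_⟩, rfl⟩
  show (includeLeft : B →ₐ[A] B ⊗[A] B) b = (includeRight : B →ₐ[A] B ⊗[A] B) b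
  refine e₃.injective ?_
  show e₃ (b ⊗ₜ[A] 1) = e₃ ((1 : B) ⊗ₜ[A] b)
  rw [h3, h3, hb]

end Groth.Agent.FlatMono
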