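import Groth.Agent.FlatMono.Spread
import Groth.Agent.HenselLib.LocColimit

/-!
# Flat algebras with etale self tensor product and exact Amitsur sequence are etale
-/

set_option autoImplicit false
set_option linter.style.haveILetI false
set_option backward.isDefEq.respectTransparency.types false
set_option backward.isDefEq.respectTransparency false
set_option synthInstance.maxHeartbeats 200000
set_option synthInstance.maxSize 1000

universe u

open CategoryTheory Limits AlgebraicGeometry TensorProduct Algebra.TensorProduct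
open Groth.Agent.HenselLib

noncomputable section

namespace Groth.Agent.FlatMono

variable {A B : Type u} [CommRing A] [CommRing B] [Algebra A B]

theorem etale_tensorProduct_pushout {A' B' : Type u} [CommRing A'] [CommRing B'] [Algebra A A'] [Algebra A B']
    [Algebra A' B'] [Algebra B B'] [IsScalarTower A A' B'] [IsScalarTower A B B'] [Algebra.IsPushout A A' B B']
    [Algebra.Etale B (B ⊗[A] B)] : Algebra.Etale B' (B' ⊗[A'] B') := by
  haveI : Algebra.Etale B' (B' ⊗[B] (B ⊗[A] B)) := inferInstance
  let e₁ : B' ⊗[B] (B ⊗[A] B) ≃ₐ[B'] B' ⊗[A] B := Algebra.TensorProduct.cancelBaseChange A B B' B' B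
  let e₂ : B' ⊗[A'] (A' ⊗[A] B) ≃ₐ[B'] B' ⊗[A] B := Algebra.TensorProduct.cancelBaseChange A A' B' B' B
  let e₃ : B' ⊗[A'] (A' ⊗[A] B) ≃ₐ[B'] B' ⊗[A'] B' :=
    Algebra.TensorProduct.congr AlgEquiv.refl (Algebra.IsPushout.equiv A A' B B')
  exact Algebra.Etale.of_equiv (e₁.trans (e₂.symm.trans e₃))

theorem exists_etale_stage (S : Submonoid A) {A' B' : Type u} [CommRing A'] [CommRing B'] [Algebra A A']
    [Algebra A B'] [Algebra A' B'] [IsScalarTower A A' B'] [IsLocalization S A'] [Algebra.Etale A' B'] :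
    ∃ (T : Type u) (_ : CommRing T) (_ : Algebra A T) (_ : Algebra.Etale A T) (_ : Algebra T B')
      (_ : IsScalarTower A T B'), IsLocalization (Algebra.algebraMapSubmonoid T S) B' := by
  obtain ⟨x, T, f', g, hpo, hf'⟩ := MorphismProperty.PreIndSpreads.exists_isPushout
    (P := IndEt.etaleMP.{u}) (LocColim.isColimit S A')
    (CommRingCat.ofHom (algebraMap A' B') : CommRingCat.of A' ⟶ CommRingCat.of B')
    (show (algebraMap A' B').Etale from RingHom.etale_algebraMap.2 ‹Algebra.Etale A' B'›)
  let Ax := Localization.Away x.s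
  letI : Algebra Ax T := f'.hom.toAlgebra
  haveI : Algebra.Etale Ax T := hf'
  letI : Algebra A T := (f'.hom.comp (algebraMap A Ax)).toAlgebra
  haveI : IsScalarTower A Ax T := IsScalarTower.of_algebraMap_eq' rfl
  haveI : Algebra.Etale A Ax := Algebra.Etale.of_isLocalizationAway x.s
  haveI : Algebra.Etale A T := Algebra.Etale.comp A Ax T
  letI : Algebra T B' := g.hom.toAlgebra
  letI : Algebra Ax A' := (LocColim.toLim S A' x).toAlgebra
  haveI : IsScalarTower A Ax A' := IsScalarTower.of_algebraMap_eq fun a => (LocColim.toLim_algebraMap S A' x a).symm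
  letI : Algebra Ax B' := ((algebraMap A' B').comp (algebraMap Ax A')).toAlgebra
  haveI : IsScalarTower Ax A' B' := IsScalarTower.of_algebraMap_eq' rfl
  haveI : IsScalarTower A Ax B' := IsScalarTower.of_algebraMap_eq fun a => by
    show _ = algebraMap A' B' (algebraMap Ax A' (algebraMap A Ax a))
    rw [← IsScalarTower.algebraMap_apply A Ax A', ← IsScalarTower.algebraMap_apply A A' B']
  have hw : ∀ y, algebraMap A' B' (algebraMap Ax A' y) = g.hom (f'.hom y) := fun y =>
    ConcreteCategory.congr_hom hpo.w y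
  haveI : IsScalarTower Ax T B' := IsScalarTower.of_algebraMap_eq hw
  haveI : IsScalarTower A T B' := IsScalarTower.of_algebraMap_eq fun a => by
    show _ = g.hom (f'.hom (algebraMap A Ax a))
    rw [← hw, ← IsScalarTower.algebraMap_apply, ← IsScalarTower.algebraMap_apply]
  haveI hloc : IsLocalization (Algebra.algebraMapSubmonoid Ax S) A' := by
    constructor; constructor
    · rintro ⟨_, u, hu, rfl⟩
      rw [← IsScalarTower.algebraMap_apply]
      exact IsLocalization.map_units A' (⟨u, hu⟩ : S)
    · intro z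
      obtain ⟨⟨a, ⟨u, hu⟩⟩, h⟩ := IsLocalization.surj S z
      refine ⟨⟨algebraMap A Ax a, ⟨_, u, hu, rfl⟩⟩, ?_⟩
      rw [← IsScalarTower.algebraMap_apply, ← IsScalarTower.algebraMap_apply]
      exact h
    · intro y₁ y₂ h
      obtain ⟨n₁, a₁, ha₁⟩ := IsLocalization.Away.surj x.s y₁
      obtain ⟨n₂, a₂, ha₂⟩ := IsLocalization.Away.surj x.s y₂
      have e₁ := congrArg (algebraMap Ax A') ha₁
      have e₂ := congrArg (algebraMap Ax A') ha₂
      rw [map_mul, map_pow, ← IsScalarTower.algebraMap_apply, ← IsScalarTower.algebraMap_apply] at e₁ e₂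
      have e : algebraMap A A' (a₁ * x.s ^ n₂) = algebraMap A A' (a₂ * x.s ^ n₁) := by
        rw [map_mul, map_mul, map_pow, map_pow, ← e₁, ← e₂, h]
        ring
      obtain ⟨⟨u, hu⟩, hu'⟩ := (IsLocalization.eq_iff_exists S A').1 e
      refine ⟨⟨_, u, hu, rfl⟩, ?_⟩
      have hx : IsUnit (algebraMap A Ax x.s ^ n₁ * algebraMap A Ax x.s ^ n₂) :=
        ((IsLocalization.Away.algebraMap_isUnit x.s).pow n₁).mul ((IsLocalization.Away.algebraMap_isUnit x.s).pow n₂)
      refine hx.mul_right_injective ?_
      have h2 := congrArg (algebraMap A Ax) hu'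
      simp only [map_mul, map_pow] at h2
      rw [← ha₁, ← ha₂] at h2
      linear_combination h2
  haveI hp : Algebra.IsPushout Ax T A' B' :=
    ((CommRingCat.isPushout_iff_isPushout (R := Ax) (S := T) (R' := A') (S' := B')).1 hpo).symm
  refine ⟨T, inferInstance, inferInstance, inferInstance, inferInstance, inferInstance, ?_⟩
  have h := (Algebra.isLocalization_iff_isPushout (Algebra.algebraMapSubmonoid Ax S) A').2 hp
  have e : Algebra.algebraMapSubmonoid T (Algebra.algebraMapSubmonoid Ax S) = Algebra.algebraMapSubmonoid T S := by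
    ext z
    constructor
    · rintro ⟨_, ⟨a, ha, rfl⟩, rfl⟩
      exact ⟨a, ha, IsScalarTower.algebraMap_apply A Ax T a⟩
    · rintro ⟨a, ha, rfl⟩
      exact ⟨_, ⟨a, ha, rfl⟩, (IsScalarTower.algebraMap_apply A Ax T a).symm⟩
  rwa [e] at h

theorem isOpenImmersion_includeRight (s : A) (X : Type u) [CommRing X] [Algebra A X] :
    IsOpenImmersion (Spec.map (CommRingCat.ofHom
      (includeRight : X →ₐ[A] Localization.Away s ⊗[A] X).toRingHom)) ∧
    ∀ P : PrimeSpectrum X, algebraMap A X s ∉ P.asIdeal →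
      P ∈ Set.range (Spec.map (CommRingCat.ofHom
        (includeRight : X →ₐ[A] Localization.Away s ⊗[A] X).toRingHom)) := by
  letI := (includeRight : X →ₐ[A] Localization.Away s ⊗[A] X).toRingHom.toAlgebra
  haveI : IsLocalization.Away (algebraMap A X s) (Localization.Away s ⊗[A] X) := by
    have h := IsLocalization.tensorRight (S := X) (A := Localization.Away s) (Submonoid.powers s)
    rwa [Algebra.algebraMapSubmonoid_powers] at h
  refine ⟨IsOpenImmersion.of_isLocalization (R := X) (algebraMap A X s), fun P hP => ?_⟩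
  have h : P ∈ (PrimeSpectrum.basicOpen (algebraMap A X s) : Set (PrimeSpectrum X)) := hP
  rw [← PrimeSpectrum.localization_away_comap_range (Localization.Away s ⊗[A] X) (algebraMap A X s)] at h
  exact h

/-- The last step: bijectivity over a flat algebra gives an etale open piece. -/
theorem final_step (hinj : Function.Injective (algebraMap A B))
    (hex : ∀ b : B, (1 : B) ⊗ₜ[A] b = b ⊗ₜ 1 → b ∈ Set.range (algebraMap A B))
    {T₁ X₁ : Type u} [CommRing T₁] [CommRing X₁] [Algebra A T₁] [Algebra A X₁] [Algebra.Etale A T₁]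
    (ψ : T₁ →ₐ[A] X₁) (j₁ : B →ₐ[A] X₁) [IsOpenImmersion (Spec.map (CommRingCat.ofHom j₁.toRingHom))]
    (P : PrimeSpectrum X₁) (u : A) (hu : algebraMap A X₁ u ∉ P.asIdeal)
    (hb : Function.Bijective ((ψ.toLinearMap.lTensor (Localization.Away u)).lTensor B)) :
    ∃ (X : Type u) (_ : CommRing X) (k : B →+* X),
      IsOpenImmersion (Spec.map (CommRingCat.ofHom k)) ∧
      Spec.map (CommRingCat.ofHom j₁.toRingHom) P ∈ Set.range (Spec.map (CommRingCat.ofHom k)) ∧
      (k.comp (algebraMap A B)).Etale := by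
  haveI : Algebra.Etale A (Localization.Away u) := Algebra.Etale.of_isLocalizationAway u
  haveI : Algebra.Etale A (Localization.Away u ⊗[A] T₁) := Algebra.Etale.comp A (Localization.Away u) _
  let ψ₂ : Localization.Away u ⊗[A] T₁ →ₐ[A] Localization.Away u ⊗[A] X₁ :=
    Algebra.TensorProduct.map (AlgHom.id A _) ψ
  have hψ₂ : ψ₂.toLinearMap = ψ.toLinearMap.lTensor (Localization.Away u) := TensorProduct.ext' fun a b => by
    simp [ψ₂]
  let j : B →ₐ[A] Localization.Away u ⊗[A] X₁ := (includeRight : X₁ →ₐ[A] Localization.Away u ⊗[A] X₁).comp j₁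
  have hret : Function.Injective fun x : Localization.Away u ⊗[A] X₁ => (1 : B) ⊗ₜ[A] x :=
    Function.LeftInverse.injective
      (g := Algebra.TensorProduct.productMap j (AlgHom.id A (Localization.Away u ⊗[A] X₁))) fun x => by simp
  have hψb : Function.Bijective ψ₂.toLinearMap :=
    bijective_of_lTensor hinj hex ψ₂.toLinearMap hret (by rw [hψ₂]; exact hb)
  haveI : Algebra.Etale A (Localization.Away u ⊗[A] X₁) := Algebra.Etale.of_equiv (AlgEquiv.ofBijective ψ₂ hψb)
  have hk : Spec.map (CommRingCat.ofHom j.toRingHom) =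
      Spec.map (CommRingCat.ofHom (includeRight : X₁ →ₐ[A] Localization.Away u ⊗[A] X₁).toRingHom) ≫
        Spec.map (CommRingCat.ofHom j₁.toRingHom) := by
    rw [← Spec.map_comp]
    rfl
  obtain ⟨i₂, r₂⟩ := isOpenImmersion_includeRight u X₁
  haveI := i₂
  refine ⟨Localization.Away u ⊗[A] X₁, inferInstance, j.toRingHom, by rw [hk]; infer_instance, ?_, ?_⟩
  · obtain ⟨P₂, hP₂⟩ := r₂ P hu
    exact ⟨P₂, by rw [hk, Scheme.Hom.comp_apply, hP₂]⟩
  · rw [show j.toRingHom.comp (algebraMap A B) = algebraMap A (Localization.Away u ⊗[A] X₁) from j.comp_algebraMap]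
    exact RingHom.etale_algebraMap.2 inferInstance

/-- The last two steps. -/
theorem final_steps (hinj : Function.Injective (algebraMap A B))
    (hex : ∀ b : B, (1 : B) ⊗ₜ[A] b = b ⊗ₜ 1 → b ∈ Set.range (algebraMap A B))
    {T X₀ : Type u} [CommRing T] [CommRing X₀] [Algebra A T] [Algebra A X₀] [Algebra.Etale A T]
    (ψ : T →ₐ[A] X₀) (k₀ : B →ₐ[A] X₀) [IsOpenImmersion (Spec.map (CommRingCat.ofHom k₀.toRingHom))]
    (P : PrimeSpectrum X₀) (u₁ u₂ : A) (hu₁ : algebraMap A X₀ u₁ ∉ P.asIdeal) (hu₂ : algebraMap A X₀ u₂ ∉ P.asIdeal)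
    (hb : Function.Bijective
      (((ψ.toLinearMap.lTensor (Localization.Away u₁)).lTensor (Localization.Away u₂)).lTensor B)) :
    ∃ (X : Type u) (_ : CommRing X) (k : B →+* X),
      IsOpenImmersion (Spec.map (CommRingCat.ofHom k)) ∧
      Spec.map (CommRingCat.ofHom k₀.toRingHom) P ∈ Set.range (Spec.map (CommRingCat.ofHom k)) ∧
      (k.comp (algebraMap A B)).Etale := by
  haveI : Algebra.Etale A (Localization.Away u₁) := Algebra.Etale.of_isLocalizationAway u₁
  haveI : Algebra.Etale A (Localization.Away u₁ ⊗[A] T) := Algebra.Etale.comp A (Localization.Away u₁) _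
  obtain ⟨ψ₁, hψ₁⟩ : ∃ ψ₁ : Localization.Away u₁ ⊗[A] T →ₐ[A] Localization.Away u₁ ⊗[A] X₀,
      ψ₁.toLinearMap = ψ.toLinearMap.lTensor (Localization.Away u₁) :=
    ⟨Algebra.TensorProduct.map (AlgHom.id A _) ψ, TensorProduct.ext' fun a b => by simp⟩
  obtain ⟨i₁, r₁⟩ := isOpenImmersion_includeRight u₁ X₀
  let j₁ : B →ₐ[A] Localization.Away u₁ ⊗[A] X₀ := (includeRight : X₀ →ₐ[A] Localization.Away u₁ ⊗[A] X₀).comp k₀
  have hj : Spec.map (CommRingCat.ofHom j₁.toRingHom) =
      Spec.map (CommRingCat.ofHom (includeRight : X₀ →ₐ[A] Localization.Away u₁ ⊗[A] X₀).toRingHom) ≫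
        Spec.map (CommRingCat.ofHom k₀.toRingHom) := by
    rw [← Spec.map_comp]
    rfl
  haveI := i₁
  haveI : IsOpenImmersion (Spec.map (CommRingCat.ofHom j₁.toRingHom)) := by rw [hj]; infer_instance
  obtain ⟨P₁, hP₁⟩ := r₁ P hu₁
  have hfin := final_step hinj hex ψ₁ j₁ P₁ u₂ (fun h => hu₂ (by
    rw [← hP₁]
    show (includeRight : X₀ →ₐ[A] Localization.Away u₁ ⊗[A] X₀) (algebraMap A X₀ u₂) ∈ P₁.asIdeal
    rw [AlgHom.commutes]; exact h)) (by rw [hψ₁]; exact hb)
  rw [hj, Scheme.Hom.comp_apply, hP₁] at hfin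
  exact hfin

/-- A flat algebra with etale self tensor product and exact Amitsur sequence is etale. -/
theorem etale_specMap_of_amitsur [Module.Flat A B] [Algebra.Etale B (B ⊗[A] B)]
    (hinj : Function.Injective (algebraMap A B))
    (hex : ∀ b : B, (1 : B) ⊗ₜ[A] b = b ⊗ₜ 1 → b ∈ Set.range (algebraMap A B)) :
    Etale (Spec.map (CommRingCat.ofHom (algebraMap A B))) := by
  classical
  have main : ∀ P : PrimeSpectrum B, ∃ (X : Type u) (_ : CommRing X) (k : B →+* X),
      IsOpenImmersion (Spec.map (CommRingCat.ofHom k)) ∧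
      P ∈ Set.range (Spec.map (CommRingCat.ofHom k)) ∧ (k.comp (algebraMap A B)).Etale := by
    intro P
    let p := P.asIdeal.comap (algebraMap A B)
    let S := p.primeCompl
    let A' := Localization.AtPrime p
    let B' := Localization (Algebra.algebraMapSubmonoid B S)
    letI : Algebra A' B' := localizationAlgebra S B
    haveI : IsScalarTower A A' B' := IsScalarTower.of_algebraMap_eq fun a => by
      show _ = IsLocalization.map B' (algebraMap A B) (T := Algebra.algebraMapSubmonoid B S)
        (show S ≤ (Algebra.algebraMapSubmonoid B S).comap (algebraMap A B) from Submonoid.le_comap_map S)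
        (algebraMap A A' a)
      rw [IsLocalization.map_eq, ← IsScalarTower.algebraMap_apply]
    haveI : Algebra.IsPushout A B A' B' := Algebra.isPushout_of_isLocalization S A' B B'
    haveI : Algebra.IsPushout A A' B B' := Algebra.IsPushout.symm ‹_›
    haveI : Module.Flat A' B' := Module.Flat.of_linearEquiv
      (Algebra.IsPushout.equiv A A' B B').symm.toLinearEquiv
    haveI : Module.FaithfullyFlat A' B' := by
      refine Module.FaithfullyFlat.of_comap_surjective fun q => ?_
      haveI : Algebra.HasGoingDown A' B' := Algebra.HasGoingDown.of_flat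
      have hd : Disjoint (Algebra.algebraMapSubmonoid B S : Set B) (P.asIdeal : Set B) := by
        rw [Set.disjoint_left]
        rintro _ ⟨u, hu, rfl⟩ hP
        exact hu hP
      let Q : Ideal B' := P.asIdeal.map (algebraMap B B')
      haveI hQ : Q.IsPrime := IsLocalization.isPrime_of_isPrime_disjoint _ B' P.asIdeal P.isPrime hd
      have hQc : Q.comap (algebraMap A' B') = IsLocalRing.maximalIdeal A' := by
        refine (IsLocalization.orderEmbedding S A').injective ?_
        show (Q.comap (algebraMap A' B')).comap (algebraMap A A') = (IsLocalRing.maximalIdeal A').comap (algebraMap A A')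
        rw [Ideal.comap_comap, ← IsScalarTower.algebraMap_eq A A' B', IsScalarTower.algebraMap_eq A B B',
          ← Ideal.comap_comap, show Q.comap (algebraMap B B') = P.asIdeal from
            IsLocalization.under_map_of_isPrime_disjoint _ B' P.isPrime hd]
        exact IsLocalization.AtPrime.comap_maximalIdeal A' p |>.symm
      haveI : Flat (Spec.map (CommRingCat.ofHom (algebraMap A' B'))) :=
        (HasRingHomProperty.Spec_iff (P := @Flat)).2 (RingHom.flat_algebraMap_iff.2 inferInstance)
      obtain ⟨z, hz⟩ := Flat.generalizingMap (Spec.map (CommRingCat.ofHom (algebraMap A' B')))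
        (show (q : PrimeSpectrum A') ⤳ Spec.map (CommRingCat.ofHom (algebraMap A' B')) (⟨Q, hQ⟩ : PrimeSpectrum B') by
          refine (PrimeSpectrum.le_iff_specializes _ _).1 ?_
          show q.asIdeal ≤ Q.comap (algebraMap A' B')
          rw [hQc]
          exact IsLocalRing.le_maximalIdeal q.isPrime.ne_top)
      exact ⟨z, hz.2⟩
    haveI : Algebra.Etale B' (B' ⊗[A'] B') := etale_tensorProduct_pushout (A := A) (B := B)
    haveI : Algebra.Etale A' B' := Algebra.Etale.of_etale_tensorProduct_of_faithfullyFlat B'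
    obtain ⟨T, _, _, _, _, _, hT⟩ := exists_etale_stage S (A' := A') (B' := B')
    obtain ⟨s, hs, ψ, t, ht, hψ⟩ := exists_lift (B := B) S B' T (IsScalarTower.toAlgHom A T B')
    have hbij := sBij_of_comp S B' hs ψ t ht hψ
    haveI : Algebra.FinitePresentation A (Localization.Away s) := IsLocalization.Away.finitePresentation s
    haveI : Algebra.FinitePresentation B (B ⊗[A] (Localization.Away s ⊗[A] B)) := by
      haveI : Algebra.FinitePresentation B ((B ⊗[A] Localization.Away s) ⊗[B] (B ⊗[A] B)) :=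
        Algebra.FinitePresentation.trans B (B ⊗[A] Localization.Away s)
          ((B ⊗[A] Localization.Away s) ⊗[B] (B ⊗[A] B))
      exact Algebra.FinitePresentation.equiv (R := B) (A := (B ⊗[A] Localization.Away s) ⊗[B] (B ⊗[A] B))
        (B := B ⊗[A] (Localization.Away s ⊗[A] B))
        ((Algebra.TensorProduct.cancelBaseChange A B B (B ⊗[A] Localization.Away s) B).trans
          (Algebra.TensorProduct.assoc A A B B (Localization.Away s) B))
    obtain ⟨u₁, hu₁, u₂, hu₂, hb⟩ := exists_bijective (B := B) S ψ hbij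
    obtain ⟨i₀, r₀⟩ := isOpenImmersion_includeRight s B
    haveI := i₀
    obtain ⟨P₀, hP₀⟩ := r₀ P hs
    have hnot : ∀ u ∈ S, algebraMap A (Localization.Away s ⊗[A] B) u ∉ P₀.asIdeal := fun u hu h => hu (by
      show algebraMap A B u ∈ P.asIdeal
      rw [← hP₀]
      show (includeRight : B →ₐ[A] Localization.Away s ⊗[A] B) (algebraMap A B u) ∈ P₀.asIdeal
      rw [AlgHom.commutes]; exact h)
    have hfin := final_steps hinj hex ψ (includeRight : B →ₐ[A] Localization.Away s ⊗[A] B) P₀ u₁ u₂
      (hnot u₁ hu₁) (hnot u₂ hu₂) hb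
    rw [hP₀] at hfin
    exact hfin
  choose X cX k hk₁ hk₂ hk₃ using main
  refine IsZariskiLocalAtSource.of_openCover (P := @Etale)
    { I₀ := PrimeSpectrum B
      X := fun P => Spec (@CommRingCat.of (X P) (cX P))
      f := fun P => Spec.map (@CommRingCat.ofHom B (X P) _ (cX P) (k P))
      mem₀ := by
        rw [Scheme.presieve₀_mem_precoverage_iff]
        exact ⟨fun P => ⟨P, hk₂ P⟩, fun P => hk₁ P⟩ } fun P => ?_
  show Etale (Spec.map _ ≫ Spec.map _)
  rw [← Spec.map_comp]
  exact (HasRingHomProperty.Spec_iff (P := @Etale)).2 (hk₃ P)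

end Groth.Agent.FlatMono
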