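import Groth.Agent.FlatMono.EqAlg
import Groth.Agent.AlgSpLib.LqfScheme

/-!
# Flat monomorphisms of algebraic spaces to schemes
-/

set_option autoImplicit false
set_option linter.style.haveILetI false
set_option backward.isDefEq.respectTransparency.types false
set_option backward.isDefEq.respectTransparency false

universe u

open CategoryTheory Limits AlgebraicGeometry Opposite Topology TensorProduct
open AlgSp
open Groth.Agent.AlgSpLib

noncomputable section

namespace Groth.Agent.FlatMono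

variable {S : Scheme.{u}}

theorem exists_iso_yon_of_flat_mono_affine {X : Sp S} (hX : IsAlgSpace X) [CompactSpace (Points X)]
    {T : Over S} [IsAffine T.left] (f : X ⟶ (yon S).obj T) [Mono f] (hflat : LocP @Flat f) :
    ∃ G : Over S, Nonempty ((yon S).obj G ≅ X) := by
  obtain ⟨U, p, hU, hpe, hps⟩ := exists_affine_chart hX
  obtain ⟨u, hu⟩ := (yon S).map_surjective (p ≫ f)
  haveI hfl : Flat u.left := hflat p (𝟙 _) u hpe (repWith_id _ T) (by rw [Category.comp_id]; exact hu.symm)
  have sqR0 := hpe.1.isPullback' p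
  let R := hpe.1.pullback p
  let π₁ : R ⟶ U := hpe.1.fst' p
  let π₂ : R ⟶ U := hpe.1.snd p
  haveI he₁ : Etale π₁.left := hpe.property _ _ _ sqR0.flip
  have hπ : π₁ ≫ u = π₂ ≫ u := (yon S).map_injective (by
    rw [Functor.map_comp, Functor.map_comp, hu, ← Category.assoc, sqR0.w, Category.assoc])
  -- the kernel pair over the base
  have sqY : IsPullback ((yon S).map π₁) ((yon S).map π₂) ((yon S).map u) ((yon S).map u) := by
    rw [hu]
    exact ⟨⟨by rw [← Category.assoc, sqR0.w, Category.assoc]⟩, ⟨PullbackCone.IsLimit.mk _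
      (fun s => sqR0.lift s.fst s.snd ((cancel_mono f).1 (by rw [Category.assoc, Category.assoc]; exact s.condition)))
      (fun s => sqR0.lift_fst _ _ _) (fun s => sqR0.lift_snd _ _ _)
      (fun s m h1 h2 => sqR0.hom_ext (h1.trans (sqR0.lift_fst _ _ _).symm) (h2.trans (sqR0.lift_snd _ _ _).symm))⟩⟩
  have sqU : IsPullback π₁ π₂ u u := IsPullback.of_map (yon S) hπ sqY
  have sqL : IsPullback π₁.left π₂.left u.left u.left := sqU.map (Over.forget S)
  letI : Algebra Γ(T.left, ⊤) Γ(U.left, ⊤) := u.left.appTop.hom.toAlgebra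
  haveI : Module.Flat Γ(T.left, ⊤) Γ(U.left, ⊤) :=
    HasRingHomProperty.iff_of_isAffine.1 hfl
  let A := Γ(T.left, ⊤)
  let B := Γ(U.left, ⊤)
  let au : A ⟶ B := CommRingCat.ofHom (algebraMap A B)
  let l₁ : B ⟶ CommRingCat.of (B ⊗[A] B) := CommRingCat.ofHom Algebra.TensorProduct.includeLeftRingHom
  let l₂ : B ⟶ CommRingCat.of (B ⊗[A] B) :=
    CommRingCat.ofHom (Algebra.TensorProduct.includeRight : B →ₐ[A] B ⊗[A] B).toRingHom
  have sqA : IsPullback (Spec.map l₁) (Spec.map l₂) (Spec.map au) (Spec.map au) :=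
    isPullback_SpecMap_of_isPushout _ _ _ _ (CommRingCat.isPushout_tensorProduct A B B)
  have sqS : IsPullback (π₁.left ≫ U.left.isoSpec.hom) (π₂.left ≫ U.left.isoSpec.hom) (Spec.map au) (Spec.map au) :=
    sqL.of_iso (Iso.refl _) U.left.isoSpec U.left.isoSpec T.left.isoSpec (by simp) (by simp)
      (Scheme.isoSpec_hom_naturality u.left).symm (Scheme.isoSpec_hom_naturality u.left).symm
  let r := sqS.isoIsPullback _ _ sqA
  have hr₁ : r.hom ≫ Spec.map l₁ = π₁.left ≫ U.left.isoSpec.hom := IsPullback.isoIsPullback_hom_fst _ _ _ _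
  have hr₂ : r.hom ≫ Spec.map l₂ = π₂.left ≫ U.left.isoSpec.hom := IsPullback.isoIsPullback_hom_snd _ _ _ _
  haveI : Algebra.Etale B (B ⊗[A] B) := by
    have h : Etale (Spec.map l₁) := by
      rw [show Spec.map l₁ = r.inv ≫ π₁.left ≫ U.left.isoSpec.hom by rw [← hr₁, Iso.inv_hom_id_assoc]]
      infer_instance
    exact RingHom.etale_algebraMap.1 ((HasRingHomProperty.Spec_iff (P := @Etale)).1 h)
  -- the equalizer ring
  let E := eqAlg A B
  let i : CommRingCat.of E ⟶ B := CommRingCat.ofHom (algebraMap E B)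
  haveI hiet : Etale (Spec.map i) := etale_specMap_eqAlg A B
  let j : A ⟶ CommRingCat.of E := CommRingCat.ofHom (algebraMap A E)
  have hji : j ≫ i = au := rfl
  let al : Spec (CommRingCat.of E) ⟶ T.left := Spec.map j ≫ T.left.isoSpec.inv
  let A₁ : Over S := Over.mk (al ≫ T.hom)
  let a : A₁ ⟶ T := Over.homMk al
  let ql : U.left ⟶ Spec (CommRingCat.of E) := U.left.isoSpec.hom ≫ Spec.map i
  haveI : Etale ql := inferInstanceAs (Etale (U.left.isoSpec.hom ≫ Spec.map i))
  have hqu : ql ≫ al = u.left := by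
    simp only [ql, al, Category.assoc, ← Spec.map_comp_assoc, hji]
    show U.left.isoSpec.hom ≫ Spec.map u.left.appTop ≫ T.left.isoSpec.inv = u.left
    rw [Scheme.isoSpec_hom_naturality_assoc u.left, Iso.hom_inv_id, Category.comp_id]
  have hqst : π₁.left ≫ ql = π₂.left ≫ ql := by
    simp only [ql]
    rw [← Category.assoc, ← hr₁, ← Category.assoc, ← hr₂, Category.assoc, Category.assoc, ← Spec.map_comp,
      ← Spec.map_comp]
    congr 2
    ext x
    exact x.2
  -- the image
  let O : (Spec (CommRingCat.of E)).Opens := ⟨Set.range ql, ql.isOpenMap.isOpen_range⟩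
  let G : Over S := Over.mk (O.ι ≫ al ≫ T.hom)
  let q₀ : U.left ⟶ O.toScheme := IsOpenImmersion.lift O.ι ql (by rw [Scheme.Opens.range_ι]; rfl)
  have hq₀ : q₀ ≫ O.ι = ql := IsOpenImmersion.lift_fac _ _ _
  let q : U ⟶ G := Over.homMk q₀ (by
    show q₀ ≫ O.ι ≫ al ≫ T.hom = _
    rw [reassoc_of% hq₀, reassoc_of% hqu, Over.w u])
  haveI : Etale q.left := MorphismProperty.of_postcomp (W := @Etale) (W' := @Etale) q₀ O.ι inferInstance
    (by rw [hq₀]; infer_instance)
  haveI : Surjective q.left := ⟨fun z => by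
    obtain ⟨y, hy⟩ : z.1 ∈ Set.range ql := z.2
    refine ⟨y, O.ι.isOpenEmbedding.injective ?_⟩
    show O.ι (q₀ y) = O.ι z
    rw [← Scheme.Hom.comp_apply, hq₀]
    exact hy⟩
  have hqq : π₁ ≫ q = π₂ ≫ q := Over.OverMorphism.ext ((cancel_mono O.ι).1 (by
    show (π₁.left ≫ q₀) ≫ O.ι = (π₂.left ≫ q₀) ≫ O.ι
    rw [Category.assoc, Category.assoc, hq₀, hqst]))
  let g₁ : G ⟶ T := Over.homMk (O.ι ≫ al) (Category.assoc _ _ _)
  have hqg : q ≫ g₁ = u := Over.OverMorphism.ext (by
    show q₀ ≫ O.ι ≫ al = u.left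
    rw [reassoc_of% hq₀, hqu])
  haveI := isLocallySurjective_of_etale hpe hps
  haveI : Epi p := Sheaf.epi_of_isLocallySurjective p
  haveI : IsRegularEpiCategory (Sp S) :=
    inferInstanceAs (IsRegularEpiCategory (Sheaf (J S) (Type (u + 1))))
  haveI : IsRegularEpi p := IsRegularEpiCategory.regularEpiOfEpi p
  haveI := isLocallySurjective_of_etale ((repWith_yon_map_iff @Etale q).2 ‹_›)
    ((repWith_yon_map_iff @Surjective q).2 ‹_›)
  haveI : Epi ((yon S).map q) := Sheaf.epi_of_isLocallySurjective _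
  haveI : IsRegularEpi ((yon S).map q) := IsRegularEpiCategory.regularEpiOfEpi _
  let g : X ⟶ (yon S).obj G := EffectiveEpi.desc p ((yon S).map q) fun {Z} x₁ x₂ h => by
    obtain ⟨l, rfl, rfl⟩ := sqR0.exists_lift x₁ x₂ h
    rw [Category.assoc, Category.assoc, ← Functor.map_comp, ← Functor.map_comp, hqq]
  have hg : p ≫ g = (yon S).map q := EffectiveEpi.fac _ _ _
  let k : (yon S).obj G ⟶ X := EffectiveEpi.desc ((yon S).map q) p fun {Z} x₁ x₂ h => by
    refine (cancel_mono f).1 ?_
    rw [Category.assoc, Category.assoc, ← hu, ← hqg, Functor.map_comp, ← Category.assoc, h, Category.assoc]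
  have hk : (yon S).map q ≫ k = p := EffectiveEpi.fac _ _ _
  exact ⟨G, ⟨⟨k, g, by rw [← cancel_epi ((yon S).map q), ← Category.assoc, hk, hg, Category.comp_id],
    by rw [← cancel_epi p, ← Category.assoc, hg, hk, Category.comp_id]⟩⟩⟩

/-- An algebraic space with a flat monomorphism to a scheme is a scheme. -/
theorem exists_iso_yon_of_flat_mono {X : Sp S} (hX : IsAlgSpace X) {T : Over S}
    (f : X ⟶ (yon S).obj T) [Mono f] (hflat : LocP @Flat f) :
    ∃ G : Over S, Nonempty ((yon S).obj G ≅ X) := by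
  have hpiece : ∀ x : Points X, ∃ (A : Over S) (j : (yon S).obj A ⟶ X),
      RepWith @IsOpenImmersion j ∧ x ∈ Set.range (Points.map j) := by
    intro x
    obtain ⟨t, ht⟩ := (Points.schemeEquiv T).surjective (Points.map f x)
    obtain ⟨O, hO, htO, -⟩ := exists_isAffineOpen_mem_and_subset (U := ⊤) (x := t) trivial
    let TO : Over S := Over.mk (O.ι ≫ T.hom)
    let ι : TO ⟶ T := Over.homMk O.ι
    have : IsAffine TO.left := hO
    have hι : RepWith @IsOpenImmersion ((yon S).map ι) :=
      (repWith_yon_map_iff _ ι).2 (inferInstanceAs (IsOpenImmersion O.ι))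
    have hιm : Mono ((yon S).map ι) :=
      mono_of_repWith (fun _ _ k (_ : IsOpenImmersion k) => (inferInstance : Mono k)) hι
    have hιr : ∀ z, z ∈ Set.range (Points.map ((yon S).map ι)) ↔ z ∈ Points.ofScheme T '' (O : Set ↥T.left) := by
      intro z
      constructor
      · rintro ⟨y, rfl⟩
        obtain ⟨y, rfl⟩ := (Points.schemeEquiv _).surjective y
        exact ⟨O.ι y, y.2, (map_yon_map_ofScheme ι y).symm⟩
      · rintro ⟨a, ha, rfl⟩
        exact ⟨Points.ofScheme _ ⟨a, ha⟩, map_yon_map_ofScheme ι ⟨a, ha⟩⟩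
    let W₀ : Set (Points X) := Points.map f ⁻¹' (Points.ofScheme T '' (O : Set ↥T.left))
    have hW₀ : IsOpen W₀ := ((Points.schemeHomeo T).isOpenMap _ O.isOpen).preimage (Points.continuous_map f)
    obtain ⟨W, hWo, hWc, hxW, hWW⟩ :=
      exists_isOpen_isCompact_nhd hX hW₀ (show x ∈ W₀ from ⟨t, htO, ht⟩)
    let j := openSubspaceι X W
    have hj := repWith_openSubspaceι X hWo
    have hWa := isAlgSpace_openSubspace hX hWo
    have : CompactSpace (Points (openSubspace X W)) := by
      have hemb := (isEmbedding_map_of_immersion hX (RepWith.mono (fun _ _ g (_ : IsOpenImmersion g) =>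
        (inferInstance : IsImmersion g)) hj)).1
      rw [← isCompact_univ_iff, hemb.isCompact_iff, Set.image_univ, range_openSubspaceι]
      exact hWc
    obtain ⟨f', hf'⟩ := (exists_lift_iff_range_subset hι (j ≫ f)).2 (by
      rintro _ ⟨z, rfl⟩
      rw [hιr, Points.map_comp]
      exact hWW ((range_openSubspaceι X W).subset ⟨z, rfl⟩))
    haveI : Mono (j ≫ f) := mono_comp _ _
    haveI : Mono f' := mono_of_mono_fac hf'
    have hflat' : LocP @Flat f' := fun U V a b h ha hb e =>
      hflat (a ≫ j) (b ≫ (yon S).map ι) h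
        (RepWith.comp ha (RepWith.mono (fun _ _ g (_ : IsOpenImmersion g) => (inferInstance : Etale g)) hj))
        (RepWith.comp hb (RepWith.mono (fun _ _ g (_ : IsOpenImmersion g) => (inferInstance : Etale g)) hι))
        (by rw [Category.assoc, ← hf', ← Category.assoc, e, Category.assoc])
    obtain ⟨G, ⟨e⟩⟩ := exists_iso_yon_of_flat_mono_affine hWa f' hflat'
    obtain ⟨o, ho⟩ := (range_openSubspaceι X W).symm.subset hxW
    refine ⟨G, e.hom ≫ j, RepWith.comp (repWith_of_isIso _ e.hom) hj, Points.map e.inv o, ?_⟩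
    rw [Points.map_comp, ← Points.map_comp e.inv, Iso.inv_hom_id, Points.map_id, ho]
  obtain ⟨U, p, hpe, hps⟩ := hX.atlas
  choose A j hj hxj using fun u : ↥U.left => hpiece (Points.ofPt p u)
  refine exists_iso_yon_of_openCover j hj fun x => ?_
  obtain ⟨u, rfl⟩ := surjective_ofPt p hps x
  exact ⟨u, hxj u⟩

/-- Flat monomorphisms of algebraic spaces are representable. -/
theorem representable_of_flat_mono {X Y : Sp S} (hX : IsAlgSpace X) (hY : IsAlgSpace Y) (f : X ⟶ Y) [Mono f]
    (hflat : LocP @Flat f) : Representable f := by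
  refine representable_of_affine f fun T hT t => ?_
  have sq := IsPullback.of_hasPullback f t
  have hP := isAlgSpace_of_isPullback hY.diag hX (IsAlgSpace.yon_obj T) sq
  obtain ⟨G, ⟨e⟩⟩ := exists_iso_yon_of_flat_mono hP (pullback.snd f t)
    (locP_of_isPullback etLocal_flat hX hY hP sq hflat)
  obtain ⟨w, hw⟩ := (yon S).map_surjective (e.hom ≫ pullback.snd f t)
  exact ⟨G, w, e.hom ≫ pullback.fst f t,
    sq.of_iso e.symm (Iso.refl _) (Iso.refl _) (Iso.refl _) (by simp) (by simp [hw]) (by simp) (by simp)⟩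

end Groth.Agent.FlatMono
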