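import Groth.Agent.FlatMono.Basic
import Mathlib.RingTheory.Etale.Basic
import Mathlib.RingTheory.Localization.AtPrime.Basic
import Mathlib.RingTheory.TensorProduct.Maps
import Mathlib.LinearAlgebra.TensorProduct.Tower

/-!
# Descending a map to a localisation and its bijectivity
-/

set_option autoImplicit false
set_option linter.style.haveILetI false
set_option backward.isDefEq.respectTransparency.types false
set_option backward.isDefEq.respectTransparency false
set_option synthInstance.maxHeartbeats 100000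

universe u

open TensorProduct Algebra.TensorProduct

namespace Groth.Agent.FlatMono

variable {A : Type u} [CommRing A] {B : Type u} [CommRing B] [Algebra A B]

/-- A map which becomes bijective over a flat algebra with exact Amitsur complex is bijective. -/
theorem bijective_of_lTensor (hinj : Function.Injective (algebraMap A B))
    (hex : ∀ b : B, (1 : B) ⊗ₜ[A] b = b ⊗ₜ 1 → b ∈ Set.range (algebraMap A B))
    {C X : Type u} [AddCommGroup C] [AddCommGroup X] [Module A C] [Module A X] [Module.Flat A C]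
    (f : C →ₗ[A] X) (hret : Function.Injective fun x : X => (1 : B) ⊗ₜ[A] x)
    (h : Function.Bijective (f.lTensor B)) : Function.Bijective f := by
  let e : A →ₗ[A] B := Algebra.linearMap A B
  let d : B →ₗ[A] B ⊗[A] B := (TensorProduct.mk A B B 1) - (TensorProduct.mk A B B).flip 1
  have hexd : Function.Exact e d := fun b => by
    constructor
    · intro hb
      exact hex b (sub_eq_zero.1 hb)
    · rintro ⟨a, rfl⟩
      show (1 : B) ⊗ₜ[A] algebraMap A B a - algebraMap A B a ⊗ₜ[A] (1 : B) = 0
      rw [Algebra.algebraMap_eq_smul_one, tmul_smul, smul_tmul', sub_self]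
  have hC := Module.Flat.rTensor_exact C hexd
  have hinjC : Function.Injective fun c : C => (1 : B) ⊗ₜ[A] c := by
    have := (Module.Flat.rTensor_preserves_injective_linearMap (M := C) e hinj).comp
      (TensorProduct.lid A C).symm.injective
    intro c c' hcc'
    exact this (by simpa [e] using hcc')
  constructor
  · intro c c' hcc'
    exact hinjC (h.1 (by simp [hcc']))
  · intro x
    obtain ⟨z, hz⟩ := h.2 ((1 : B) ⊗ₜ[A] x)
    have hdd : ∀ w : B ⊗[A] C, (f.lTensor (B ⊗[A] B)) (d.rTensor C w) = d.rTensor X (f.lTensor B w) := fun w => by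
      rw [← LinearMap.comp_apply, ← LinearMap.comp_apply, LinearMap.lTensor_comp_rTensor,
        LinearMap.rTensor_comp_lTensor]
    have hbij : Function.Injective (f.lTensor (B ⊗[A] B)) := by
      rw [LinearMap.lTensor_tensor]
      simp only [LinearMap.coe_comp, LinearEquiv.coe_coe]
      refine (TensorProduct.assoc A B B X).symm.injective.comp ((Function.Injective.comp ?_
        (TensorProduct.assoc A B B C).injective))
      intro a b hab
      have hsurj : Function.Bijective ((f.lTensor B).lTensor B) :=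
        ((LinearEquiv.ofBijective _ h).lTensor B).bijective
      exact hsurj.1 hab
    have h0 : d.rTensor C z = 0 := hbij (by
      rw [hdd, hz, map_zero]
      simp [d, TensorProduct.sub_tmul])
    obtain ⟨w, hw⟩ := (hC z).1 h0
    obtain ⟨c, rfl⟩ := (TensorProduct.lid A C).symm.surjective w
    refine ⟨c, hret ?_⟩
    show (1 : B) ⊗ₜ[A] f c = (1 : B) ⊗ₜ[A] x
    rw [← hz, ← hw]
    simp [e]

/-- Elements of the tensor product with a localisation have common denominators. -/
theorem exists_pow_smul (s : A) (X : Type u) [AddCommGroup X] [Module A X] (x : Localization.Away s ⊗[A] X) :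
    ∃ (n : ℕ) (y : X), s ^ n • x = (1 : Localization.Away s) ⊗ₜ y := by
  induction x with
  | zero => exact ⟨0, 0, by simp⟩
  | tmul a y =>
    obtain ⟨n, b, hb⟩ := IsLocalization.Away.surj s a
    refine ⟨n, b • y, ?_⟩
    rw [← smul_tmul, ← Algebra.algebraMap_eq_smul_one, ← hb, smul_tmul', Algebra.smul_def, map_pow, mul_comm]
  | add a b ha hb =>
    obtain ⟨m, y, hy⟩ := ha
    obtain ⟨n, z, hz⟩ := hb
    refine ⟨m + n, s ^ n • y + s ^ m • z, ?_⟩
    rw [smul_add, tmul_add, tmul_smul, tmul_smul, ← hy, ← hz, smul_smul, smul_smul, ← pow_add, ← pow_add,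
      add_comm n m]

variable (S : Submonoid A) (L : Type u) [CommRing L] [Algebra A L] [Algebra B L] [IsScalarTower A B L]
  [IsLocalization (Algebra.algebraMapSubmonoid B S) L]

include S in
/-- The map to the localisation from a stage. -/
theorem exists_toLim {s : A} (hs : s ∈ S) :
    ∃ t : Localization.Away s ⊗[A] B →ₐ[A] L, ∀ b, t ((1 : Localization.Away s) ⊗ₜ b) = algebraMap B L b := by
  have hu : IsUnit (algebraMap A L s) := by
    rw [IsScalarTower.algebraMap_apply A B L]
    exact IsLocalization.map_units L (⟨_, s, hs, rfl⟩ : Algebra.algebraMapSubmonoid B S)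
  let g : Localization.Away s →ₐ[A] L :=
    { IsLocalization.Away.lift s (g := algebraMap A L) hu with
      commutes' := fun a => IsLocalization.Away.lift_eq s hu a }
  exact ⟨Algebra.TensorProduct.lift g (IsScalarTower.toAlgHom A B L) (fun _ _ => Commute.all _ _), fun b => by simp⟩

include L in
theorem sBij_of_comp {T : Type u} [CommRing T] [Algebra A T] [Algebra T L] [IsScalarTower A T L]
    [IsLocalization (Algebra.algebraMapSubmonoid T S) L] {s : A} (hs : s ∈ S)
    (ψ : T →ₐ[A] Localization.Away s ⊗[A] B) (t : Localization.Away s ⊗[A] B →ₐ[A] L)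
    (ht : ∀ b, t ((1 : Localization.Away s) ⊗ₜ b) = algebraMap B L b) (hψ : ∀ x, t (ψ x) = algebraMap T L x) :
    SBij S ψ.toLinearMap := by
  -- kernel of `t`
  have hker : ∀ x, t x = 0 → ∃ u ∈ S, u • x = 0 := by
    intro x hx
    obtain ⟨n, y, hy⟩ := exists_pow_smul s B x
    have h0 : algebraMap B L y = 0 := by
      rw [← ht, ← hy, map_smul, hx, smul_zero]
    obtain ⟨⟨_, u, hu, rfl⟩, hm⟩ := (IsLocalization.map_eq_zero_iff (Algebra.algebraMapSubmonoid B S) L y).1 h0
    refine ⟨u * s ^ n, mul_mem hu (pow_mem hs n), ?_⟩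
    rw [mul_smul, hy, ← tmul_smul, Algebra.smul_def, show algebraMap A B u * y = 0 from hm, tmul_zero]
  constructor
  · intro x
    obtain ⟨⟨c, ⟨_, v, hv, rfl⟩⟩, hc⟩ := IsLocalization.surj (Algebra.algebraMapSubmonoid T S) (t x)
    have h0 : t (v • x - ψ c) = 0 := by
      rw [map_sub, hψ, ← hc, map_smul, Algebra.smul_def, IsScalarTower.algebraMap_apply A T L, mul_comm, sub_self]
    obtain ⟨u, hu, hux⟩ := hker _ h0
    refine ⟨u * v, mul_mem hu hv, u • c, ?_⟩
    rw [smul_sub, sub_eq_zero, smul_smul] at hux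
    rw [hux]
    exact map_smul ψ u c
  · intro c hc
    have hc' : algebraMap T L c = 0 := by
      rw [← hψ]
      show t (ψ.toLinearMap c) = 0
      rw [hc, map_zero]
    obtain ⟨⟨_, v, hv, rfl⟩, hvc⟩ := (IsLocalization.map_eq_zero_iff (Algebra.algebraMapSubmonoid T S) L c).1 hc'
    exact ⟨v, hv, by rw [Algebra.smul_def]; exact hvc⟩

/-- A map from a finitely presented algebra to a localisation factors through a stage. -/
theorem exists_lift (T : Type u) [CommRing T] [Algebra A T] [Algebra.FinitePresentation A T] (g : T →ₐ[A] L) :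
    ∃ (s : A) (_ : s ∈ S) (ψ : T →ₐ[A] Localization.Away s ⊗[A] B) (t : Localization.Away s ⊗[A] B →ₐ[A] L),
      (∀ b, t ((1 : Localization.Away s) ⊗ₜ b) = algebraMap B L b) ∧ ∀ x, t (ψ x) = g x := by
  classical
  obtain ⟨n, f, hf, hker⟩ := Algebra.FinitePresentation.out (R := A) (A := T)
  -- common denominators for generators
  have key : ∀ i, ∃ (u : A) (_ : u ∈ S) (b : B), algebraMap A L u * g (f (MvPolynomial.X i)) = algebraMap B L b := by
    intro i
    obtain ⟨⟨b, ⟨_, u, hu, rfl⟩⟩, h⟩ := IsLocalization.surj (Algebra.algebraMapSubmonoid B S) (g (f (MvPolynomial.X i)))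
    exact ⟨u, hu, b, by rw [← h, mul_comm, IsScalarTower.algebraMap_apply A B L]⟩
  choose v hv b hb using key
  let s₀ := ∏ i, v i
  have hs₀ : s₀ ∈ S := prod_mem fun i _ => hv i
  obtain ⟨t₀, ht₀⟩ := exists_toLim S L (B := B) hs₀
  have hdiv : ∀ i, IsUnit (algebraMap A (Localization.Away s₀) (v i)) := fun i =>
    isUnit_of_dvd_unit (map_dvd _ (Finset.dvd_prod_of_mem v (Finset.mem_univ i)))
      (IsLocalization.Away.algebraMap_isUnit s₀)
  choose w hw using fun i => (hdiv i).exists_left_inv
  let x₀ : Fin n → Localization.Away s₀ ⊗[A] B := fun i => w i ⊗ₜ b i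
  let F := MvPolynomial.aeval (R := A) x₀
  have hF : t₀.comp F = g.comp f := by
    refine MvPolynomial.algHom_ext fun i => ?_
    have hu : IsUnit (algebraMap A L (v i)) := by
      rw [IsScalarTower.algebraMap_apply A B L]
      exact IsLocalization.map_units L (⟨_, v i, hv i, rfl⟩ : Algebra.algebraMapSubmonoid B S)
    refine hu.mul_right_injective ?_
    show algebraMap A L (v i) * t₀ (F (MvPolynomial.X i)) = algebraMap A L (v i) * g (f (MvPolynomial.X i))
    rw [hb, ← ht₀, show F (MvPolynomial.X i) = x₀ i from MvPolynomial.aeval_X _ _, ← Algebra.smul_def, ← map_smul,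
      smul_tmul', Algebra.smul_def, mul_comm, hw]
  -- kill the relations
  obtain ⟨rels, hrels⟩ := hker
  have key2 : ∀ r : rels, ∃ u ∈ S, u • F r.1 = 0 := by
    intro r
    obtain ⟨k, y, hy⟩ := exists_pow_smul s₀ B (F r.1)
    have h0 : algebraMap B L y = 0 := by
      have hr : f r.1 = 0 := by
        have : (r.1 : MvPolynomial (Fin n) A) ∈ RingHom.ker f.toRingHom := hrels ▸ Ideal.subset_span r.2
        exact this
      rw [← ht₀, ← hy, map_smul, show t₀ (F r.1) = g (f r.1) from AlgHom.congr_fun hF r.1, hr, map_zero, smul_zero]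
    obtain ⟨⟨_, u, hu, rfl⟩, hm⟩ := (IsLocalization.map_eq_zero_iff (Algebra.algebraMapSubmonoid B S) L y).1 h0
    refine ⟨u * s₀ ^ k, mul_mem hu (pow_mem hs₀ k), ?_⟩
    rw [mul_smul, hy, ← tmul_smul, Algebra.smul_def, show algebraMap A B u * y = 0 from hm, tmul_zero]
  choose u hu hu0 using key2
  let s₁ := s₀ * ∏ r : rels, u r
  have hs₁ : s₁ ∈ S := mul_mem hs₀ (prod_mem fun r _ => hu r)
  obtain ⟨t₁, ht₁⟩ := exists_toLim S L (B := B) hs₁
  let tr : Localization.Away s₀ →ₐ[A] Localization.Away s₁ :=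
    { IsLocalization.Away.lift s₀ (g := algebraMap A (Localization.Away s₁))
        (isUnit_of_dvd_unit (map_dvd _ (dvd_mul_right s₀ _)) (IsLocalization.Away.algebraMap_isUnit s₁)) with
      commutes' := fun a => IsLocalization.Away.lift_eq s₀ _ a }
  let trB := Algebra.TensorProduct.map tr (AlgHom.id A B)
  have htr : t₁.comp trB = t₀ := by
    refine Algebra.TensorProduct.ext ?_ (AlgHom.ext fun b => ?_)
    · exact AlgHom.coe_ringHom_injective (IsLocalization.ringHom_ext (Submonoid.powers s₀) (RingHom.ext fun a => by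
        simp))
    · simp [trB, ht₀, ht₁]
  have hkill : ∀ r ∈ rels, trB (F r) = 0 := by
    intro r hr
    have h : (∏ r : rels, u r) • trB (F r) = 0 := by
      obtain ⟨c, hc⟩ := Finset.dvd_prod_of_mem u (Finset.mem_univ (⟨r, hr⟩ : rels))
      rw [hc, mul_comm, mul_smul, ← map_smul, hu0 ⟨r, hr⟩, map_zero, smul_zero]
    have hU : IsUnit (algebraMap A (Localization.Away s₁ ⊗[A] B) (∏ r : rels, u r)) := by
      rw [IsScalarTower.algebraMap_apply A (Localization.Away s₁) (Localization.Away s₁ ⊗[A] B)]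
      exact (isUnit_of_dvd_unit (map_dvd _ (dvd_mul_left _ s₀)) (IsLocalization.Away.algebraMap_isUnit s₁)).map _
    rw [Algebra.smul_def] at h
    exact hU.mul_right_eq_zero.1 h
  have hker' : RingHom.ker f.toRingHom ≤ RingHom.ker (trB.comp F).toRingHom := by
    rw [← hrels, Ideal.span_le]
    exact fun r hr => hkill r hr
  refine ⟨s₁, hs₁, f.liftOfSurjective hf (trB.comp F) hker', t₁, ht₁, fun x => ?_⟩
  obtain ⟨p, rfl⟩ := hf x
  rw [AlgHom.liftOfSurjective_apply]
  show t₁ (trB (F p)) = g (f p)
  rw [← AlgHom.comp_apply t₁ trB, htr]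
  exact AlgHom.congr_fun hF p

/-- Bijectivity up to torsion of an algebra map becomes bijectivity over a flat algebra at a finite stage. -/
theorem exists_bijective [Module.Flat A B] {C X : Type u} [CommRing C] [CommRing X] [Algebra A C] [Algebra A X]
    (φ : C →ₐ[A] X) [Algebra.FinitePresentation A C] [Algebra.FinitePresentation B (B ⊗[A] X)]
    (hφ : SBij S φ.toLinearMap) :
    ∃ u₁ ∈ S, ∃ u₂ ∈ S, Function.Bijective
      (((φ.toLinearMap.lTensor (Localization.Away u₁)).lTensor (Localization.Away u₂)).lTensor B) := by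
  classical
  -- surjectivity
  let Θ : B ⊗[A] C →ₐ[B] B ⊗[A] X := Algebra.TensorProduct.map (AlgHom.id B B) φ
  have hΘ : Θ.toLinearMap.restrictScalars A = φ.toLinearMap.lTensor B := by
    refine TensorProduct.ext' fun x y => ?_
    simp [Θ]
  have h0 := hφ.lTensor S B
  obtain ⟨gens, hgens⟩ := Algebra.FiniteType.out (R := B) (A := B ⊗[A] X)
  choose v hv hvr using fun y : gens => h0.surj y.1
  let u₁ := ∏ y : gens, v y
  have hu₁ : u₁ ∈ S := prod_mem fun y _ => hv y
  have hall : ∀ q : B ⊗[A] X, ∃ n : ℕ, u₁ ^ n • q ∈ LinearMap.range (φ.toLinearMap.lTensor B) := by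
    intro q
    have hq : q ∈ Algebra.adjoin B (gens : Set (B ⊗[A] X)) := hgens ▸ Algebra.mem_top
    induction hq using Algebra.adjoin_induction with
    | mem y hy =>
      obtain ⟨p, hp⟩ := hvr ⟨y, hy⟩
      obtain ⟨c, hc⟩ := Finset.dvd_prod_of_mem v (Finset.mem_univ (⟨y, hy⟩ : gens))
      exact ⟨1, c • p, by rw [map_smul, hp, smul_smul, pow_one, mul_comm, ← hc]⟩
    | algebraMap b => exact ⟨0, algebraMap B _ b, by rw [← hΘ, pow_zero, one_smul]; exact Θ.commutes b⟩
    | add x y _ _ hx hy =>
      obtain ⟨m, p, hp⟩ := hx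
      obtain ⟨n, r, hr⟩ := hy
      exact ⟨m + n, u₁ ^ n • p + u₁ ^ m • r, by
        rw [map_add, map_smul, map_smul, hp, hr, smul_smul, smul_smul, smul_add, ← pow_add, ← pow_add, add_comm n m]⟩
    | mul x y _ _ hx hy =>
      obtain ⟨m, p, hp⟩ := hx
      obtain ⟨n, r, hr⟩ := hy
      refine ⟨m + n, p * r, ?_⟩
      rw [← hΘ] at hp hr ⊢
      show Θ (p * r) = _
      rw [map_mul, show Θ p = _ from hp, show Θ r = _ from hr, smul_mul_smul_comm, pow_add]
  -- injectivity
  let φ₁ := Algebra.TensorProduct.map (AlgHom.id A (Localization.Away u₁)) φ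
  have hφ₁ : φ₁.toLinearMap = φ.toLinearMap.lTensor (Localization.Away u₁) := TensorProduct.ext' fun x y => by
    simp [φ₁]
  let Θ₁ : B ⊗[A] (Localization.Away u₁ ⊗[A] C) →ₐ[B] B ⊗[A] (Localization.Away u₁ ⊗[A] X) :=
    Algebra.TensorProduct.map (AlgHom.id B B) φ₁
  have hΘ₁ : Θ₁.toLinearMap.restrictScalars A = (φ.toLinearMap.lTensor (Localization.Away u₁)).lTensor B := by
    refine TensorProduct.ext' fun x y => ?_
    show x ⊗ₜ[A] φ₁.toLinearMap y = _
    rw [hφ₁]
    rfl
  have hsurj₁ : Function.Surjective Θ₁ := by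
    intro q
    have e : Function.Surjective ((φ.toLinearMap.lTensor (Localization.Away u₁)).lTensor B) := by
      have hs := surjective_lTensor_away (φ.toLinearMap.lTensor B) u₁ hall
      have e : (φ.toLinearMap.lTensor (Localization.Away u₁)).lTensor B =
          (TensorProduct.leftComm A (Localization.Away u₁) B X).toLinearMap ∘ₗ
            (φ.toLinearMap.lTensor B).lTensor (Localization.Away u₁) ∘ₗ
            (TensorProduct.leftComm A B (Localization.Away u₁) C).toLinearMap := by
        ext a b c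
        simp
      rw [e]
      exact (TensorProduct.leftComm A (Localization.Away u₁) B X).surjective.comp
        (hs.comp (TensorProduct.leftComm A B (Localization.Away u₁) C).surjective)
    rw [← hΘ₁] at e
    exact e q
  haveI : Algebra.FinitePresentation A (Localization.Away u₁) := IsLocalization.Away.finitePresentation u₁
  haveI : Algebra.FinitePresentation A (Localization.Away u₁ ⊗[A] C) :=
    Algebra.FinitePresentation.trans A (Localization.Away u₁) (Localization.Away u₁ ⊗[A] C)
  haveI : Algebra.FinitePresentation B (B ⊗[A] (Localization.Away u₁ ⊗[A] X)) := by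
    haveI : Algebra.FinitePresentation A (Localization.Away u₁) := IsLocalization.Away.finitePresentation u₁
    haveI : Algebra.FinitePresentation (B ⊗[A] Localization.Away u₁)
        ((B ⊗[A] Localization.Away u₁) ⊗[B] (B ⊗[A] X)) := inferInstance
    haveI : Algebra.FinitePresentation B ((B ⊗[A] Localization.Away u₁) ⊗[B] (B ⊗[A] X)) :=
      Algebra.FinitePresentation.trans B (B ⊗[A] Localization.Away u₁) ((B ⊗[A] Localization.Away u₁) ⊗[B] (B ⊗[A] X))
    exact Algebra.FinitePresentation.equiv (R := B) (A := (B ⊗[A] Localization.Away u₁) ⊗[B] (B ⊗[A] X))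
      (B := B ⊗[A] (Localization.Away u₁ ⊗[A] X))
      ((Algebra.TensorProduct.cancelBaseChange A B B (B ⊗[A] Localization.Away u₁) X).trans
        (Algebra.TensorProduct.assoc A A B B (Localization.Away u₁) X))
  obtain ⟨kgens, hk⟩ := Algebra.FinitePresentation.ker_fG_of_surjective (R := B) (A := B ⊗[A] (Localization.Away u₁ ⊗[A] C))
    (B := B ⊗[A] (Localization.Away u₁ ⊗[A] X)) Θ₁ hsurj₁
  have h1 := (hφ.lTensor S (Localization.Away u₁)).lTensor S B
  have hz₁ : ∀ z : kgens, ∃ w ∈ S, w • z.1 = 0 := fun z => h1.inj z.1 (by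
    rw [← hΘ₁]
    exact (hk ▸ Ideal.subset_span z.2 : (z.1 : _) ∈ RingHom.ker Θ₁.toRingHom))
  choose w hw hw0 using hz₁
  let u₂ := ∏ z : kgens, w z
  refine ⟨u₁, hu₁, u₂, prod_mem fun z _ => hw z,
    bijective_lTensor_leftComm A B (Localization.Away u₂) (φ.toLinearMap.lTensor (Localization.Away u₁))
      ⟨injective_lTensor_away _ u₂ fun z hz => ?_, surjective_lTensor_away _ u₂ fun q => ⟨0, ?_⟩⟩⟩
  · refine ⟨1, ?_⟩
    rw [← hΘ₁] at hz
    have hz' : z ∈ RingHom.ker Θ₁.toRingHom := hz
    rw [← hk] at hz'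
    clear hz
    rw [pow_one]
    induction hz' using Submodule.span_induction with
    | mem x hx =>
      obtain ⟨c, hc⟩ := Finset.dvd_prod_of_mem w (Finset.mem_univ (⟨x, hx⟩ : kgens))
      show (∏ z : kgens, w z) • x = 0
      rw [hc, mul_comm, mul_smul, hw0 ⟨x, hx⟩, smul_zero]
    | zero => exact smul_zero _
    | add x y _ _ hx hy => rw [smul_add, hx, hy, add_zero]
    | smul a x _ hx => rw [smul_comm, hx, smul_zero]
  · obtain ⟨p, hp⟩ := hsurj₁ q
    refine ⟨p, ?_⟩
    rw [← hΘ₁, pow_zero, one_smul]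
    exact hp

end Groth.Agent.FlatMono
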